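import Mathlib

/-! Steinitz' decomposition for invertible modules. -/

set_option autoImplicit false

universe u v w

noncomputable section

open TensorProduct

namespace Groth.Steinitz

variable {R : Type u} [CommRing R] {M : Type v} [AddCommGroup M] [Module R M] [Module.Invertible R M]
  {N : Type w} [AddCommGroup N] [Module R N] [Module.Invertible R N]

theorem smul_swap (f : M →ₗ[R] R) (a b : M) : f a • b = f b • a := by
  have h : a ⊗ₜ[R] b = b ⊗ₜ a := Module.Invertible.tmul_comm
  simpa using congrArg (fun z => TensorProduct.lid R M (f.rTensor M z)) h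

/-- Two forms generating the unit ideal split off a free rank one summand. -/
def prodEquiv (f : M →ₗ[R] R) (g : N →ₗ[R] R) (m₀ : M) (n₀ : N) (h : f m₀ + g n₀ = 1) :
    (M × N) ≃ₗ[R] R × (M ⊗[R] N) :=
  let Φ : M ⊗[R] N →ₗ[R] M × N := TensorProduct.lift <| LinearMap.mk₂ R
    (fun m n => (g n • m, -(f m • n)))
    (fun m m' n => by simp [add_smul]; abel)
    (fun c m n => by simp [smul_smul, mul_comm])
    (fun m n n' => by simp [add_smul]; abel)
    (fun c m n => by simp [smul_smul, mul_comm])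
  LinearEquiv.ofLinearMap
    ((f.coprod g).prod (((TensorProduct.mk R M N).flip n₀).coprod (-(TensorProduct.mk R M N m₀))))
    ((LinearMap.toSpanSingleton R (M × N) (m₀, n₀)).coprod Φ)
    (by
      apply LinearMap.prod_ext
      · apply LinearMap.ext_ring
        simp [h]
      · apply TensorProduct.ext'
        intro m n
        simp only [LinearMap.comp_apply, LinearMap.inr_apply, LinearMap.coprod_apply, map_zero, zero_add,
          LinearMap.prod_apply, Function.prod, LinearMap.id_apply, Φ, TensorProduct.lift.tmul, LinearMap.mk₂_apply,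
          LinearMap.flip_apply, LinearMap.neg_apply, TensorProduct.mk_apply, map_neg, map_smul, smul_eq_mul,
          neg_neg]
        refine Prod.ext (by simp; ring) ?_
        dsimp only
        rw [smul_neg, neg_neg]
        rw [← tmul_smul, smul_swap g n n₀, tmul_smul, smul_tmul', smul_tmul', smul_swap f m m₀,
          ← add_tmul, ← add_smul, add_comm, h, one_smul])
    (by
      refine LinearMap.ext fun ⟨m, n⟩ => ?_
      simp only [LinearMap.comp_apply, LinearMap.coprod_apply, LinearMap.prod_apply, Function.prod,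
        LinearMap.id_apply, Φ, LinearMap.toSpanSingleton_apply, LinearMap.flip_apply, LinearMap.neg_apply,
        TensorProduct.mk_apply, map_add, map_neg, TensorProduct.lift.tmul, LinearMap.mk₂_apply, Prod.neg_mk,
        Prod.mk_add_mk, Prod.smul_mk, neg_neg]
      refine Prod.ext ?_ ?_
      · dsimp only
        rw [smul_swap f m m₀]
        linear_combination (norm := module) h • m
      · dsimp only
        rw [smul_swap g n n₀]
        linear_combination (norm := module) h • n)

theorem exists_form_notMem (P : Ideal R) [P.IsPrime] : ∃ (g : N →ₗ[R] R) (n : N), g n ∉ P := by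
  by_contra hc
  push Not at hc
  have h : ∀ z : Module.Dual R N ⊗[R] N, contractLeft R N z ∈ P := by
    intro z
    induction z using TensorProduct.induction_on with
    | zero => simp
    | tmul g n => simpa using hc g n
    | add x y hx hy => rw [map_add]; exact P.add_mem hx hy
  exact ‹P.IsPrime›.ne_top ((Ideal.eq_top_iff_one P).2 (by
    obtain ⟨z, hz⟩ := (Module.Invertible.bijective (R := R) (M := N)).2 (1 : R)
    exact hz ▸ h z))

variable [IsDedekindDomain R]

variable (M N) in
theorem exists_pair : ∃ (f : M →ₗ[R] R) (g : N →ₗ[R] R) (m₀ : M) (n₀ : N), f m₀ + g n₀ = 1 := by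
  classical
  obtain ⟨f, m₁, hfm⟩ := exists_form_notMem (N := M) (⊥ : Ideal R)
  let I : Ideal R := LinearMap.range f
  have hI : I ≠ ⊥ := fun e => hfm (by rw [← e]; exact ⟨m₁, rfl⟩)
  let s := (UniqueFactorizationMonoid.normalizedFactors I).toFinset.filter fun P => P.IsMaximal
  have hmax : ∀ P : s, (P : Ideal R).IsMaximal := fun P => (Finset.mem_filter.1 P.2).2
  have hg : ∀ P : s, ∃ (g : N →ₗ[R] R) (n : N), g n ∉ (P : Ideal R) := fun P =>
    have := hmax P; exists_form_notMem _
  choose g n hgn using hg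
  have hco : Pairwise (Function.onFun IsCoprime fun P : s => (P : Ideal R)) := fun P Q hPQ =>
    have := hmax P; have := hmax Q
    Ideal.isCoprime_of_isMaximal fun e => hPQ (Subtype.ext e)
  choose e he using fun P : s => Ideal.exists_forall_sub_mem_ideal hco fun Q => if Q = P then (1 : R) else 0
  let G : N →ₗ[R] R := ∑ P, e P • g P
  have htop : I ⊔ LinearMap.range G = ⊤ := by
    by_contra hne
    obtain ⟨P, hP, hle⟩ := Ideal.exists_le_maximal _ hne
    have hPs : P ∈ s := by
      refine Finset.mem_filter.2 ⟨Multiset.mem_toFinset.2 ?_, hP⟩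
      rw [Ideal.mem_normalizedFactors_iff hI]
      exact ⟨hP.isPrime, le_trans le_sup_left hle⟩
    refine hgn ⟨P, hPs⟩ ?_
    have h1 : G (n ⟨P, hPs⟩) ∈ P := hle (Submodule.mem_sup_right ⟨_, rfl⟩)
    have h2 : G (n ⟨P, hPs⟩) - g ⟨P, hPs⟩ (n ⟨P, hPs⟩) ∈ P := by
      have e1 : g ⟨P, hPs⟩ (n ⟨P, hPs⟩) =
          ∑ Q : s, (if (⟨P, hPs⟩ : s) = Q then (1 : R) else 0) * g Q (n ⟨P, hPs⟩) := by simp
      rw [e1]
      simp only [G, LinearMap.sum_apply, LinearMap.smul_apply, smul_eq_mul]
      rw [← Finset.sum_sub_distrib]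
      refine P.sum_mem fun Q _ => ?_
      rw [← sub_mul]
      exact P.mul_mem_right _ (he Q ⟨P, hPs⟩)
    simpa using P.sub_mem h1 h2
  obtain ⟨a, ⟨m₀, rfl⟩, b, ⟨n₀, rfl⟩, hab⟩ := Submodule.mem_sup.1 ((Ideal.eq_top_iff_one _).1 htop)
  exact ⟨f, G, m₀, n₀, hab⟩

variable (M) in
theorem pow_equiv (n : ℕ) :
    Nonempty ((Fin (n + 1) → M) ≃ₗ[R] (Fin n → R) × (CommRing.Pic.mk R M ^ (n + 1) : CommRing.Pic R)) := by
  induction n with
  | zero =>
    have e : CommRing.Pic.mk R M ^ (0 + 1) = CommRing.Pic.mk R M := pow_one _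
    rw [e]
    exact ⟨LinearEquiv.funUnique (Fin 1) R M ≪≫ₗ (CommRing.Pic.mk.linearEquiv R M).symm ≪≫ₗ
      (LinearEquiv.uniqueProd (M₂ := Fin 0 → R)).symm⟩
  | succ n ih =>
    obtain ⟨e⟩ := ih
    obtain ⟨f, g, m₀, n₀, h⟩ := exists_pair (R := R) M (CommRing.Pic.mk R M ^ (n + 1) : CommRing.Pic R)
    have hmk : CommRing.Pic.mk R (M ⊗[R] (CommRing.Pic.mk R M ^ (n + 1) : CommRing.Pic R)) =
        CommRing.Pic.mk R M ^ (n + 1 + 1) := by
      rw [CommRing.Pic.mk_tensor, CommRing.Pic.mk_eq_self, ← pow_succ']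
    exact ⟨(Fin.consLinearEquiv R fun _ : Fin (n + 1 + 1) => M).symm ≪≫ₗ
      ((LinearEquiv.refl R M).prodCongr e) ≪≫ₗ
      (LinearEquiv.prodAssoc R M _ _).symm ≪≫ₗ
      ((LinearEquiv.prodComm R _ _).prodCongr (LinearEquiv.refl R _)) ≪≫ₗ
      LinearEquiv.prodAssoc R _ _ _ ≪≫ₗ
      ((LinearEquiv.refl R _).prodCongr (prodEquiv f g m₀ n₀ h)) ≪≫ₗ
      (LinearEquiv.prodAssoc R _ _ _).symm ≪≫ₗ
      ((LinearEquiv.prodComm R _ _ ≪≫ₗ Fin.consLinearEquiv R fun _ : Fin (n + 1) => R).prodCongr
        (CommRing.Pic.mk_eq_iff.1 hmk).some)⟩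

end Groth.Steinitz
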