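import Mathlib

/-! Automorphisms of matrix algebras and invertible modules killed by `n`. -/

set_option autoImplicit false

universe u v

noncomputable section

open TensorProduct Matrix

namespace Groth.Steinitz

variable {R : Type u} [CommRing R] {m : ℕ}

local notation "E" => fun i j : Fin (m + 1) => (Matrix.single i j 1 : Matrix (Fin (m + 1)) (Fin (m + 1)) R)

section Aut

variable (φ : Matrix (Fin (m + 1)) (Fin (m + 1)) R ≃ₐ[R] Matrix (Fin (m + 1)) (Fin (m + 1)) R)

/-- The automorphism read in endomorphisms. -/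
def psi : Matrix (Fin (m + 1)) (Fin (m + 1)) R ≃ₐ[R] Module.End R (Fin (m + 1) → R) :=
  φ.trans Matrix.toLinAlgEquiv'

/-- The image of the first elementary idempotent. -/
def sub : Submodule R (Fin (m + 1) → R) := LinearMap.range (psi φ (E 0 0))

theorem psi_mul_apply (A B : Matrix (Fin (m + 1)) (Fin (m + 1)) R) (v : Fin (m + 1) → R) :
    psi φ A (psi φ B v) = psi φ (A * B) v := by rw [map_mul, Module.End.mul_apply]

theorem fix_of_mem {x : Fin (m + 1) → R} (hx : x ∈ sub φ) : psi φ (E 0 0) x = x := by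
  obtain ⟨y, rfl⟩ := hx
  rw [psi_mul_apply, Matrix.single_mul_single_same, one_mul]

theorem mem_sub (i : Fin (m + 1)) (v : Fin (m + 1) → R) : psi φ (E 0 i) v ∈ sub φ :=
  ⟨psi φ (E 0 i) v, by rw [psi_mul_apply, Matrix.single_mul_single_same, one_mul]⟩

theorem sum_single : ∑ i, (E i 0 * E 0 i) = (1 : Matrix (Fin (m + 1)) (Fin (m + 1)) R) := by
  simp only [Matrix.single_mul_single_same, one_mul]
  ext a b
  simp [Matrix.sum_apply, Matrix.single_apply, Matrix.one_apply, ite_and]

/-- The decomposition into copies of the submodule. -/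
def decomp : (Fin (m + 1) → R) ≃ₗ[R] (Fin (m + 1) → sub φ) :=
  LinearEquiv.ofLinearMap
    (LinearMap.pi fun i => (psi φ (E 0 i)).codRestrict (sub φ) (mem_sub φ i))
    (∑ i, psi φ (E i 0) ∘ₗ (sub φ).subtype ∘ₗ LinearMap.proj i)
    (by
      refine LinearMap.ext fun w => funext fun j => Subtype.ext ?_
      simp only [LinearMap.comp_apply, LinearMap.sum_apply, LinearMap.proj_apply, LinearMap.pi_apply,
        LinearMap.codRestrict_apply, map_sum, psi_mul_apply, LinearMap.id_apply, Submodule.subtype_apply]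
      rw [Submodule.coe_sum, Finset.sum_eq_single j]
      · rw [LinearMap.codRestrict_apply, psi_mul_apply, Matrix.single_mul_single_same, one_mul,
          fix_of_mem φ (w j).2]
      · intro i _ hi
        rw [LinearMap.codRestrict_apply, psi_mul_apply, Matrix.single_mul_single_of_ne _ _ _ _ (Ne.symm hi),
          map_zero, LinearMap.zero_apply]
      · simp)
    (by
      refine LinearMap.ext fun v => ?_
      simp only [LinearMap.comp_apply, LinearMap.sum_apply, LinearMap.proj_apply, LinearMap.pi_apply,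
        LinearMap.codRestrict_apply, psi_mul_apply, LinearMap.id_apply, Submodule.subtype_apply]
      rw [← LinearMap.sum_apply, ← map_sum, sum_single, map_one, Module.End.one_apply])

theorem decomp_symm_apply (w : Fin (m + 1) → sub φ) :
    (decomp φ).symm w = ∑ i, psi φ (E i 0) (w i : Fin (m + 1) → R) := by
  simp [decomp]

theorem end_scalar (h : sub φ →ₗ[R] sub φ) : ∃ r : R, ∀ x, h x = r • x := by
  let p' := (psi φ (E 0 0)).codRestrict (sub φ) (mem_sub φ 0)
  let H : Module.End R (Fin (m + 1) → R) := (sub φ).subtype ∘ₗ h ∘ₗ p'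
  let A := (psi φ).symm H
  have hA : E 0 0 * A * E 0 0 = A := (psi φ).injective <| by
    rw [map_mul, map_mul, AlgEquiv.apply_symm_apply]
    refine LinearMap.ext fun v => ?_
    simp only [Module.End.mul_apply, H, LinearMap.comp_apply, Submodule.subtype_apply]
    rw [fix_of_mem φ (h _).2]
    congr 2
    exact Subtype.ext (fix_of_mem φ (mem_sub φ 0 v))
  have hA' : A = A 0 0 • E 0 0 := by
    conv_lhs => rw [← hA]
    ext a b
    simp [Matrix.mul_apply, Matrix.single_apply, ite_and]
    split_ifs <;> rfl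
  refine ⟨A 0 0, fun x => Subtype.ext ?_⟩
  have h1 : psi φ A x.1 = A 0 0 • x.1 := by
    rw [hA', map_smul, LinearMap.smul_apply, fix_of_mem φ x.2]
    simp
  rw [AlgEquiv.apply_symm_apply] at h1
  refine Eq.trans ?_ h1
  simp only [H, LinearMap.comp_apply, Submodule.subtype_apply]
  congr 2
  exact Subtype.ext (fix_of_mem φ x.2).symm

theorem invertible_sub : Module.Invertible R (sub φ) := by
  classical
  let q : Fin (m + 1) → Module.Dual R (sub φ) := fun i => LinearMap.proj i ∘ₗ (sub φ).subtype
  let nv : Fin (m + 1) → sub φ := fun i =>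
    (psi φ (E 0 0)).codRestrict (sub φ) (mem_sub φ 0) (Pi.single i 1)
  let ε : Module.Dual R (sub φ) ⊗[R] sub φ := ∑ i, q i ⊗ₜ[R] nv i
  have hrep : ∀ x : sub φ, x = ∑ i, q i x • nv i := fun x => Subtype.ext <| by
    simp only [Submodule.coe_sum, Submodule.coe_smul, nv, LinearMap.codRestrict_apply, q,
      LinearMap.comp_apply, Submodule.subtype_apply, LinearMap.proj_apply, ← map_smul, ← map_sum]
    conv_lhs => rw [← fix_of_mem φ x.2]
    congr 1
    ext j
    simp [Finset.sum_apply, Pi.single_apply]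
  have hgen : ∀ z : Module.Dual R (sub φ) ⊗[R] sub φ, ∃ r : R, z = r • ε := by
    intro z
    induction z using TensorProduct.induction_on with
    | zero => exact ⟨0, by simp⟩
    | tmul g x =>
      obtain ⟨r, hr⟩ := end_scalar φ (g.smulRight x)
      refine ⟨r, ?_⟩
      have hq : ∀ i, q i x • g = r • q i := fun i => LinearMap.ext fun z => by
        have := congrArg (q i) (hr z)
        simp only [LinearMap.smulRight_apply, map_smul, smul_eq_mul] at this
        simpa [mul_comm] using this
      conv_lhs => rw [hrep x, tmul_sum]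
      simp only [ε, Finset.smul_sum]
      exact Finset.sum_congr rfl fun i _ => by
        rw [tmul_smul, smul_tmul', hq, ← smul_tmul']
    | add a b ha hb =>
      obtain ⟨r, hr⟩ := ha
      obtain ⟨s, hs⟩ := hb
      exact ⟨r + s, by rw [hr, hs, add_smul]⟩
  let w := decomp φ (Pi.single 0 1)
  let z₀ : Module.Dual R (sub φ) ⊗[R] sub φ :=
    ∑ i, (LinearMap.proj 0 ∘ₗ psi φ (E i 0) ∘ₗ (sub φ).subtype) ⊗ₜ[R] w i
  have hz₀ : contractLeft R (sub φ) z₀ = 1 := by
    simp only [z₀, map_sum, contractLeft_apply, LinearMap.comp_apply, LinearMap.proj_apply,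
      Submodule.subtype_apply]
    rw [← Finset.sum_apply, ← decomp_symm_apply, LinearEquiv.symm_apply_apply, Pi.single_eq_same]
  obtain ⟨r₀, hr₀⟩ := hgen z₀
  rw [hr₀, map_smul, smul_eq_mul] at hz₀
  refine ⟨⟨(injective_iff_map_eq_zero _).2 fun z hz => ?_, fun r => ⟨(r * r₀) • ε, ?_⟩⟩⟩
  · obtain ⟨r, rfl⟩ := hgen z
    rw [map_smul, smul_eq_mul] at hz
    have : r = 0 := by linear_combination r₀ * hz - r * hz₀
    rw [this, zero_smul]
  · rw [map_smul, smul_eq_mul]
    linear_combination r * hz₀

theorem exists_inner [Module.Free R (sub φ)] :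
    ∃ P : GL (Fin (m + 1)) R, ∀ A : Matrix (Fin (m + 1)) (Fin (m + 1)) R, φ A = P.1 * A * (P⁻¹).1 := by
  have := invertible_sub φ
  obtain ⟨e⟩ := (Module.Invertible.free_iff_linearEquiv (R := R) (M := sub φ)).1 inferInstance
  let L : (Fin (m + 1) → R) ≃ₗ[R] (Fin (m + 1) → R) :=
    (LinearEquiv.piCongrRight fun _ : Fin (m + 1) => e.symm) ≪≫ₗ (decomp φ).symm
  let P : GL (Fin (m + 1)) R :=
    Units.map (Matrix.toLinAlgEquiv' (n := Fin (m + 1)) (R := R)).symm.toAlgHom.toMonoidHom
      ((LinearMap.GeneralLinearGroup.generalLinearEquiv R (Fin (m + 1) → R)).symm L)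
  refine ⟨P, fun A => ?_⟩
  apply Matrix.toLinAlgEquiv'.injective
  have hP : Matrix.toLinAlgEquiv' (P.1) = L.toLinearMap := Matrix.toLinAlgEquiv'.apply_symm_apply _
  have hPi : Matrix.toLinAlgEquiv' ((P⁻¹).1) = L.symm.toLinearMap := Matrix.toLinAlgEquiv'.apply_symm_apply _
  rw [map_mul, map_mul, hP, hPi]
  refine LinearMap.ext fun v => ?_
  obtain ⟨a, rfl⟩ := L.surjective v
  simp only [Module.End.mul_apply, LinearEquiv.coe_coe, LinearEquiv.symm_apply_apply]
  change psi φ A ((decomp φ).symm fun i => e.symm (a i)) =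
    (decomp φ).symm fun i => e.symm (Matrix.toLinAlgEquiv' A a i)
  rw [decomp_symm_apply, decomp_symm_apply, map_sum]
  simp only [psi_mul_apply]
  have hmul : ∀ j, A * E j 0 = ∑ i, A i j • E i 0 := fun j => by
    ext x y
    simp [Matrix.mul_apply, Matrix.sum_apply, Matrix.single_apply, ite_and]
  simp only [hmul, map_sum, map_smul, LinearMap.sum_apply, LinearMap.smul_apply]
  rw [Finset.sum_comm]
  refine Finset.sum_congr rfl fun i _ => ?_
  simp only [Matrix.toLinAlgEquiv'_apply, Matrix.mulVec, dotProduct]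
  simp only [map_sum, Submodule.coe_sum]
  refine Finset.sum_congr rfl fun j _ => ?_
  rw [← smul_eq_mul, map_smul e.symm, Submodule.coe_smul, map_smul]

end Aut

section Module

variable (R) (N : Type v) [AddCommGroup N] [Module R N]

/-- The action of matrices on powers of a module. -/
def act : Matrix (Fin (m + 1)) (Fin (m + 1)) R →ₐ[R] Module.End R (Fin (m + 1) → N) :=
  AlgHom.ofLinearMap
    { toFun := fun A => LinearMap.pi fun i => ∑ j, A i j • LinearMap.proj j
      map_add' := fun A B => LinearMap.ext fun v => funext fun i => by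
        simp [add_smul, Finset.sum_add_distrib]
      map_smul' := fun c A => LinearMap.ext fun v => funext fun i => by
        simp [mul_smul, Finset.smul_sum] }
    (LinearMap.ext fun v => funext fun i => by simp [Matrix.one_apply, ite_smul])
    (fun A B => LinearMap.ext fun v => funext fun i => by
      simp only [LinearMap.coe_mk, AddHom.coe_mk, Module.End.mul_apply, LinearMap.pi_apply,
        LinearMap.sum_apply, LinearMap.smul_apply, LinearMap.proj_apply, Matrix.mul_apply, Finset.sum_smul,
        Finset.smul_sum, mul_smul]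
      exact Finset.sum_comm)

theorem act_apply (A : Matrix (Fin (m + 1)) (Fin (m + 1)) R) (v : Fin (m + 1) → N) (i : Fin (m + 1)) :
    act R N A v i = ∑ j, A i j • v j := by
  simp [act]

theorem act_bijective [Module.Invertible R N] :
    Function.Bijective (act (m := m) R N) := by
  constructor
  · rw [injective_iff_map_eq_zero]
    intro A hA
    ext i j
    refine FaithfulSMul.eq_of_smul_eq_smul (α := N) fun x => ?_
    have := congr_fun (LinearMap.congr_fun hA (Pi.single j x)) i
    simpa [act_apply, Pi.single_apply, smul_ite] using this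
  · intro h
    choose r hr using fun i j : Fin (m + 1) => (Module.Invertible.toModuleEnd_bijective (R := R) (M := N)).2
      (LinearMap.proj i ∘ₗ h ∘ₗ LinearMap.single R (fun _ => N) j)
    refine ⟨Matrix.of r, LinearMap.pi_ext fun j x => funext fun i => ?_⟩
    have := LinearMap.congr_fun (hr i j) x
    simp only [LinearMap.comp_apply, LinearMap.proj_apply, LinearMap.coe_single] at this
    rw [act_apply, ← this]
    simp [Pi.single_apply, smul_ite]

theorem free_of_inner [Module.Invertible R N] (e : (Fin (m + 1) → N) ≃ₗ[R] (Fin (m + 1) → R))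
    (h : ∀ φ : Matrix (Fin (m + 1)) (Fin (m + 1)) R ≃ₐ[R] Matrix (Fin (m + 1)) (Fin (m + 1)) R,
      ∃ P : GL (Fin (m + 1)) R, ∀ A, φ A = P.1 * A * (P⁻¹).1) :
    Module.Free R N := by
  classical
  let φ : Matrix (Fin (m + 1)) (Fin (m + 1)) R ≃ₐ[R] Matrix (Fin (m + 1)) (Fin (m + 1)) R :=
    ((AlgEquiv.ofBijective (act R N) (act_bijective R N)).trans (LinearEquiv.conjAlgEquiv R e)).trans Matrix.toLinAlgEquiv'.symm
  obtain ⟨P, hP⟩ := h φ
  have key : ∀ (A : Matrix (Fin (m + 1)) (Fin (m + 1)) R) (v : Fin (m + 1) → N),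
      (P⁻¹).1 *ᵥ e (act R N A v) = A *ᵥ ((P⁻¹).1 *ᵥ e v) := by
    intro A v
    have h1 : e (act R N A v) = φ A *ᵥ e v := by
      rw [← Matrix.toLinAlgEquiv'_apply (φ A)]
      simp [φ, LinearEquiv.conjAlgEquiv]
    rw [h1, hP, Matrix.mulVec_mulVec, ← mul_assoc, ← mul_assoc, Units.inv_mul, one_mul, Matrix.mulVec_mulVec]
  let L : (Fin (m + 1) → N) →ₗ[R] (Fin (m + 1) → R) := (P⁻¹).1.mulVecLin ∘ₗ e.toLinearMap
  let L' : (Fin (m + 1) → R) →ₗ[R] (Fin (m + 1) → N) := e.symm.toLinearMap ∘ₗ P.1.mulVecLin
  have hLL' : ∀ a, L (L' a) = a := fun a => by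
    simp [L, L', Matrix.mulVec_mulVec]
  have hL'L : ∀ v, L' (L v) = v := fun v => by
    simp [L, L', Matrix.mulVec_mulVec]
  have hE : ∀ v : Fin (m + 1) → N, act R N (E 0 0) v = Pi.single 0 (v 0) := fun v => funext fun i => by
    rw [act_apply]
    by_cases hi : i = 0
    · subst hi; simp [Matrix.single_apply, ite_smul]
    · simp [Matrix.single_apply, ite_smul, Ne.symm hi, hi]
  have hE' : ∀ a : Fin (m + 1) → R, E 0 0 *ᵥ a = Pi.single 0 (a 0) := fun a => funext fun i => by
    simp [Matrix.single_apply, Matrix.mulVec, dotProduct, Pi.single_apply, ite_and, eq_comm]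
  refine Module.Free.of_equiv (LinearEquiv.ofLinearMap
    (LinearMap.proj 0 ∘ₗ L' ∘ₗ LinearMap.single R (fun _ => R) 0)
    (LinearMap.proj 0 ∘ₗ L ∘ₗ LinearMap.single R (fun _ => N) 0) ?_ ?_)
  · refine LinearMap.ext fun x => ?_
    simp only [LinearMap.comp_apply, LinearMap.proj_apply, LinearMap.coe_single, LinearMap.id_apply]
    have h1 : Pi.single 0 (L (Pi.single 0 x) 0) = L (Pi.single 0 x) := by
      rw [← hE']
      have := key (E 0 0) (Pi.single 0 x)
      rw [hE, Pi.single_eq_same] at this
      exact this.symm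
    rw [h1, hL'L, Pi.single_eq_same]
  · refine LinearMap.ext_ring ?_
    simp only [LinearMap.comp_apply, LinearMap.proj_apply, LinearMap.coe_single, LinearMap.id_apply]
    rw [← hE]
    have := key (E 0 0) (L' (Pi.single 0 1))
    change L (act R N (E 0 0) (L' (Pi.single 0 1))) = E 0 0 *ᵥ L (L' (Pi.single 0 1)) at this
    rw [this, hLL', hE', Pi.single_eq_same, Pi.single_eq_same]

end Module

end Groth.Steinitz
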